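import Cfsg.Agent.H672.SC
import Cfsg.Agent.J3Type.CharTools
import Cfsg.Agent.SmallSimple.InvolColumn

/-!
# One more character of degree divisible by `p` from a structure constant (helper669, task 2519)
-/

set_option autoImplicit false

open Cfsg

namespace Cfsg.Agent.H669.Dl.Third

open Cfsg.Agent.Characters.Core Cfsg.Agent.H672.SC

universe u

variable {G : Type u} [Group G]

local notation "conj" => starRingEnd ℂ

theorem exists_mul [Finite G] {p : ℕ} [hp : Fact p.Prime] (χ₀ : IrrCharacter G) (a g : G)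
    (h : ∀ χ : IrrCharacter G, p ∣ charDegree (χ : G → ℂ) → (χ : G → ℂ) g ≠ 0 → χ = χ₀) {x y : ℤ}
    (hx : (χ₀ : G → ℂ) a = x) (hy : (χ₀ : G → ℂ) g = y) :
    ∃ m : ℕ, ¬ p ∣ m ∧ ∃ k : ℤ, (m : ℤ) * (npairs a a g * (Nat.card (Subgroup.centralizer ({a} : Set G)) *
      Nat.card (Subgroup.centralizer ({a} : Set G))) * charDegree (χ₀ : G → ℂ) - x * x * y * Nat.card G) =
      k * Nat.card G * charDegree (χ₀ : G → ℂ) := by
  classical
  have : Finite (IrrCharacter G) := finite_irr
  have : Fintype (IrrCharacter G) := Fintype.ofFinite _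
  have hdeg : ∀ χ : IrrCharacter G, (χ : G → ℂ) 1 = (charDegree (χ : G → ℂ) : ℂ) := fun χ =>
    Cfsg.Agent.Blocks.Basic.irr_one_eq_charDegree χ.2
  have hD0 : (charDegree (χ₀ : G → ℂ) : ℂ) ≠ 0 := by
    rw [← hdeg]
    exact isIrr_apply_one_ne_zero χ₀.2
  set F := Finset.univ.filter fun χ : IrrCharacter G => ¬ p ∣ charDegree (χ : G → ℂ) with hF
  refine ⟨∏ χ ∈ F, charDegree (χ : G → ℂ), ?_, ?_⟩
  · intro hd
    obtain ⟨χ, hχF, hχ⟩ := (Prime.dvd_finsetProd_iff hp.out.prime _).1 hd
    rw [hF, Finset.mem_filter] at hχF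
    exact hχF.2 hχ
  · set m := ∏ χ ∈ F, charDegree (χ : G → ℂ) with hm
    have hG : (Nat.card G : ℂ) ≠ 0 := by exact_mod_cast Nat.card_pos.ne'
    have h1 := Cfsg.Agent.Characters.ClassMul.card_class_mul a a g
    have ha : (Nat.card (Subgroup.centralizer ({a} : Set G)) : ℂ) *
        ((Subgroup.centralizer ({a} : Set G)).index : ℂ) = (Nat.card G : ℂ) := by
      exact_mod_cast Subgroup.card_mul_index _
    have hsum := Finset.add_sum_erase Finset.univ (fun χ : IrrCharacter G =>
      (χ : G → ℂ) a * (χ : G → ℂ) a * conj ((χ : G → ℂ) g) / (χ : G → ℂ) 1) (Finset.mem_univ χ₀)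
    set S : ℂ := ∑ χ : IrrCharacter G,
        (χ : G → ℂ) a * (χ : G → ℂ) a * conj ((χ : G → ℂ) g) / (χ : G → ℂ) 1 with hS
    set T : ℂ := ∑ χ ∈ Finset.univ.erase χ₀,
        (χ : G → ℂ) a * (χ : G → ℂ) a * conj ((χ : G → ℂ) g) / (χ : G → ℂ) 1 with hT
    have hmT : IsIntegral ℤ ((m : ℂ) * T) := by
      rw [hT, Finset.mul_sum]
      apply IsIntegral.sum
      intro χ hχ0
      have hχne : χ ≠ χ₀ := (Finset.mem_erase.1 hχ0).1
      by_cases hpd : p ∣ charDegree (χ : G → ℂ)
      · have h0 : (χ : G → ℂ) g = 0 := by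
          by_contra hne
          exact hχne (h χ hpd hne)
        rw [h0]
        simp only [map_zero, mul_zero, zero_div]
        exact isIntegral_zero
      have hχF : χ ∈ F := by
        rw [hF, Finset.mem_filter]
        exact ⟨Finset.mem_univ _, hpd⟩
      have hsplit : (m : ℂ) = (charDegree (χ : G → ℂ) : ℂ) *
          ∏ ψ ∈ F.erase χ, (charDegree (ψ : G → ℂ) : ℂ) := by
        rw [hm]
        push_cast
        rw [Finset.mul_prod_erase F (fun ψ : IrrCharacter G => (charDegree (ψ : G → ℂ) : ℂ)) hχF]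
      have hne : (charDegree (χ : G → ℂ) : ℂ) ≠ 0 := by
        rw [← hdeg]
        exact isIrr_apply_one_ne_zero χ.2
      have : (m : ℂ) * ((χ : G → ℂ) a * (χ : G → ℂ) a * conj ((χ : G → ℂ) g) / (χ : G → ℂ) 1) =
          (∏ ψ ∈ F.erase χ, (charDegree (ψ : G → ℂ) : ℂ)) *
          ((χ : G → ℂ) a * (χ : G → ℂ) a * conj ((χ : G → ℂ) g)) := by
        rw [hdeg χ, hsplit]
        field_simp
      rw [this]
      have hχ : IsCharacter G (χ : G → ℂ) := isIrr_isCharacter χ.2
      refine IsIntegral.mul ?_ (((Characters.GaloisBasic.isIntegral_apply hχ a).mul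
        (Characters.GaloisBasic.isIntegral_apply hχ a)).mul ?_)
      · apply IsIntegral.prod
        intro ψ _
        have h3 : IsIntegral ℤ (algebraMap ℤ ℂ (charDegree (ψ : G → ℂ) : ℤ)) :=
          isIntegral_algebraMap
        simpa using h3
      · exact (Characters.GaloisBasic.isIntegral_apply hχ g).map
          ((Complex.conjAe : ℂ →ₐ[ℝ] ℂ).restrictScalars ℤ)
    have h2 : (npairs a a g : ℂ) = ((Subgroup.centralizer ({a} : Set G)).index : ℂ) *
        ((Subgroup.centralizer ({a} : Set G)).index : ℂ) / (Nat.card G : ℂ) * S := h1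
    have hS2 : S = (npairs a a g : ℂ) * (Nat.card (Subgroup.centralizer ({a} : Set G)) *
        Nat.card (Subgroup.centralizer ({a} : Set G))) / (Nat.card G : ℂ) := by
      rw [h2]
      rw [← ha]
      rw [← ha] at hG
      have hca : (Nat.card (Subgroup.centralizer ({a} : Set G)) : ℂ) ≠ 0 := left_ne_zero_of_mul hG
      have hia : ((Subgroup.centralizer ({a} : Set G)).index : ℂ) ≠ 0 := right_ne_zero_of_mul hG
      field_simp
    have h3 : T = (npairs a a g : ℂ) * (Nat.card (Subgroup.centralizer ({a} : Set G)) *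
        Nat.card (Subgroup.centralizer ({a} : Set G))) / (Nat.card G : ℂ) -
        (x : ℂ) * x * y / (charDegree (χ₀ : G → ℂ) : ℂ) := by
      have hcy : conj ((χ₀ : G → ℂ) g) = (y : ℂ) := by
        rw [hy]
        simp
      rw [hx, hcy, hdeg χ₀] at hsum
      rw [← hS2, ← hsum]
      ring
    obtain ⟨k, hk⟩ := Characters.GaloisBasic.exists_int_of_isIntegral hmT
      ⟨(m : ℚ) * ((npairs a a g : ℚ) * (Nat.card (Subgroup.centralizer ({a} : Set G)) *
        Nat.card (Subgroup.centralizer ({a} : Set G))) / (Nat.card G : ℚ) -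
        (x : ℚ) * x * y / (charDegree (χ₀ : G → ℂ) : ℚ)), by rw [h3]; push_cast; rfl⟩
    refine ⟨k, ?_⟩
    rw [h3] at hk
    have h4 : ((m : ℤ) * (npairs a a g * (Nat.card (Subgroup.centralizer ({a} : Set G)) *
      Nat.card (Subgroup.centralizer ({a} : Set G))) * charDegree (χ₀ : G → ℂ) - x * x * y * Nat.card G) : ℂ) =
      k * Nat.card G * charDegree (χ₀ : G → ℂ) := by
      rw [← hk]
      field_simp
      push_cast
      ring
    exact_mod_cast h4

end Cfsg.Agent.H669.Dl.Third
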