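import Cfsg.Agent.H669.Dl.ThData
import Cfsg.Agent.H669.Dl.Third
import Cfsg.Agent.H859.Two.Th
import Cfsg.Agent.H680.Dl.Hall
import Cfsg.Agent.H227.IMTh
import Cfsg.Agent.H574.RowTh
import Cfsg.Agent.H246.Dl.Defs
import Cfsg.Agent.H454.Dl.Crit

/-!
# S4769: the row of the Thompson group (helper669, task 2519)
-/

set_option autoImplicit false
set_option maxRecDepth 100000

open Cfsg

namespace Cfsg.Agent.H669.Dl.Th

open Cfsg.Agent.Characters.Core Cfsg.Agent.H246.Dl Cfsg.Agent.H227.IMTh Cfsg.Agent.H964.NoHall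
  Cfsg.Agent.H723.Spor.Th

universe u

theorem mem : 51684750 ∈ Cfsg.charDegrees Spor.Th ∧ 4881384 ∈ Cfsg.charDegrees Spor.Th ∧
    28861000 ∈ Cfsg.charDegrees Spor.Th := by
  obtain ⟨g, hcx⟩ := Cfsg.Agent.Th.Main475.exists_cx
  obtain ⟨h0, -, -, h2⟩ := Cfsg.Agent.Th.Main1700.final
  have := fin_th
  exact ⟨H859.Two.deg_th hcx h2 ThData.A.a ThData.A.s (1 / 195) ThData.A.hs ThData.A.ht ThData.A.huniq
      (by decide +kernel) 51684750 ThData.A.hsum,
    H859.Two.deg_th hcx h2 ThData.B.a ThData.B.s (1 / 39) ThData.B.hs ThData.B.ht ThData.B.huniq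
      (by decide +kernel) 4881384 ThData.B.hsum,
    H859.Two.deg_th hcx h2 ThData.C.a ThData.C.s (3 / 455) ThData.C.hs ThData.C.ht ThData.C.huniq
      (by decide +kernel) 28861000 ThData.C.hsum⟩

theorem exists_of_mem {d : ℕ} (h : d ∈ Cfsg.charDegrees Spor.Th) :
    ∃ χ : IrrCharacter Spor.Th, (χ : Spor.Th → ℂ) 1 = (d : ℕ) := by
  obtain ⟨χ, hχ⟩ := h
  exact ⟨χ, by rw [Cfsg.Agent.Blocks.Basic.irr_one_eq_charDegree χ.2, hχ]⟩

theorem many_of_list {p : ℕ} {D : Finset ℕ} (h : ∀ d ∈ D, p ∣ d)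
    (hD : ∀ d ∈ D, d = 51684750 ∨ d = 4881384 ∨ d = 28861000 ∨ d = 61256 ∨ d = 30875) :
    Many p Spor.Th D.card := by
  refine Many.of_finset fun d hd => ⟨h d hd, ?_⟩
  have key : ∃ χ : IrrCharacter Spor.Th, (χ : Spor.Th → ℂ) 1 = (d : ℕ) := by
    rcases hD d hd with rfl | rfl | rfl | rfl | rfl
    · exact exists_of_mem mem.1
    · exact exists_of_mem mem.2.1
    · exact exists_of_mem mem.2.2
    · exact exists_of_mem H859.Two.mem_Th.1
    · exact exists_of_mem H859.Two.mem_Th.2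
  obtain ⟨χ, hχ⟩ := key
  exact ⟨χ, χ.2, hχ⟩

theorem many_two : Many 2 Spor.Th 4 :=
  many_of_list (D := {51684750, 4881384, 28861000, 61256}) (by decide +kernel) (by
    intro d hd
    simp only [Finset.mem_insert, Finset.mem_singleton] at hd
    tauto)

theorem many_five : Many 5 Spor.Th 3 :=
  many_of_list (D := {51684750, 28861000, 30875}) (by decide +kernel) (by
    intro d hd
    simp only [Finset.mem_insert, Finset.mem_singleton] at hd
    tauto)

/-! ### An element of order 19 -/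

/-- the element of order 19 -/
noncomputable def x : Spor.Th := thE thW

/-- the involution -/
noncomputable def t : Spor.Th := thE (.g .a)

theorem x_order : orderOf x = 19 := thW_order

theorem x_pow : x ^ 19 = 1 := orderOf_dvd_iff_pow_eq_one.1 (dvd_of_eq x_order)

theorem t_order : orderOf t = 2 := thA_order

theorem inv_x : t * x * t⁻¹ = x⁻¹ := inv_of_pow (n := 18) x_pow thA_conj

theorem conj_x : thE thH * x * (thE thH)⁻¹ = x ^ 6 := mul_inv_eq_iff_eq_mul.2 thH_conj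

/-- `C(x) = ⟨x⟩` -/
theorem card_cent : Nat.card (Subgroup.centralizer ({x} : Set Spor.Th)) = 19 := by
  have hfin := fin_th
  set C := Subgroup.centralizer ({x} : Set Spor.Th) with hC
  have hxC : x ∈ C := Subgroup.mem_centralizer_singleton_iff.2 rfl
  have h19 : 19 ∣ Nat.card C := by
    have h := orderOf_dvd_natCard (⟨x, hxC⟩ : C)
    rwa [Subgroup.orderOf_mk, x_order] at h
  have hpr : ∀ r : ℕ, r.Prime → r ∣ Nat.card C → r = 19 := by
    intro r hr hd
    by_contra hne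
    have hF : Fact r.Prime := ⟨hr⟩
    obtain ⟨s, hs⟩ := exists_prime_orderOf_dvd_card' r hd
    have hs1 : orderOf (s : Spor.Th) = r := by rw [Subgroup.orderOf_coe, hs]
    have hsx : (s : Spor.Th) * x = x * s := Subgroup.mem_centralizer_singleton_iff.1 s.2
    refine H574.RowTh.th_nineteen (x := (s : Spor.Th)) (fun h => ?_) (fun h => ?_) ?_
    · rw [h, orderOf_one] at hs1
      exact hr.one_lt.ne hs1
    · rw [hs1, Nat.prime_dvd_prime_iff_eq (by norm_num) hr] at h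
      exact hne h.symm
    · have h := orderOf_dvd_natCard (⟨x, Subgroup.mem_centralizer_singleton_iff.2 hsx.symm⟩ :
        Subgroup.centralizer ({(s : Spor.Th)} : Set Spor.Th))
      rwa [Subgroup.orderOf_mk, x_order] at h
  obtain ⟨k, hk⟩ : ∃ k, Nat.card C = 19 ^ k :=
    ⟨_, Nat.eq_prime_pow_of_unique_prime_dvd Nat.card_pos.ne' fun {r} hr hd => hpr r hr hd⟩
  have hle : k ≤ 1 := by
    by_contra h
    push Not at h
    have h2 : 19 ^ 2 ∣ Nat.card Spor.Th :=
      ((pow_dvd_pow 19 h).trans (dvd_of_eq hk.symm)).trans (Subgroup.card_subgroup_dvd_card C)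
    rw [card_th] at h2
    exact absurd h2 (by norm_num)
  have h0 : k ≠ 0 := by
    rintro rfl
    rw [pow_zero] at hk
    rw [hk] at h19
    exact absurd h19 (by norm_num)
  have h1 : k = 1 := by omega
  rw [hk, h1, pow_one]

theorem list19 : ∀ r < 19, r ≠ 0 → (∃ n < 9, 6 ^ n % 19 = r) ∨ ∃ n < 9, (18 * 6 ^ n) % 19 = r := by decide

/-- `x` is rational -/
theorem conj_pow_x (m : ℕ) (hm : m.Coprime (orderOf x)) : IsConj x (x ^ m) := by
  rw [x_order] at hm
  have hr : m % 19 < 19 := Nat.mod_lt _ (by norm_num)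
  have hr0 : m % 19 ≠ 0 := by
    intro h
    have h1 : 19 ∣ m := Nat.dvd_of_mod_eq_zero h
    have h2 := Nat.Coprime.eq_one_of_dvd (hm.symm) h1
    norm_num at h2
  have hmod : ∀ k : ℕ, x ^ k = x ^ (k % 19) := fun k => by
    rw [← pow_mod_orderOf x k, x_order]
  have h6 : ∀ n : ℕ, IsConj x (x ^ 6 ^ n) := fun n =>
    isConj_iff.2 ⟨thE thH ^ n, pow_conj_pow conj_x n⟩
  have hinv : IsConj x (x ^ 18) := by
    refine isConj_iff.2 ⟨t, ?_⟩
    rw [inv_x, inv_eq_iff_mul_eq_one, ← pow_succ', x_pow]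
  rcases list19 _ hr hr0 with ⟨n, -, h⟩ | ⟨n, -, h⟩
  · rw [hmod m, ← h, ← hmod]
    exact h6 n
  · rw [hmod m, ← h, ← hmod, pow_mul]
    refine hinv.trans ?_
    obtain ⟨c, hc⟩ := isConj_iff.1 (h6 n)
    refine isConj_iff.2 ⟨c, ?_⟩
    rw [← conj_pow, hc, ← pow_mul, ← pow_mul, mul_comm]

/-- the value at `x` -/
theorem value (χ : IrrCharacter Spor.Th) : ∃ v : ℤ, (χ : Spor.Th → ℂ) x = v ∧
    (19 : ℤ) ∣ v - charDegree (χ : Spor.Th → ℂ) ∧ v ^ 2 ≤ 19 := by
  have hfin := fin_th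
  have hχ := isIrr_isCharacter χ.2
  obtain ⟨v, hv⟩ := J3Type.CharTools.int_of_conj hχ x conj_pow_x
  refine ⟨v, hv, ?_, ?_⟩
  · refine J3Type.CharTools.int_congr hχ x (by norm_num) hv ?_
    rw [x_pow, Cfsg.Agent.Blocks.Basic.irr_one_eq_charDegree χ.2]
    norm_num
  · have h := SmallSimple.InvolColumn.sum_sq_le {χ} x (fun _ => v) (by
      intro ψ hψ
      rw [Finset.mem_singleton] at hψ
      rw [hψ]
      exact hv)
    rw [card_cent, Finset.sum_singleton] at h
    exact_mod_cast h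

theorem four_of_sq {a : ℤ} (h : (3 : ℤ) ^ 7 ∣ a * a) : (3 : ℤ) ^ 4 ∣ a := by
  rcases eq_or_ne a 0 with rfl | h0
  · exact dvd_zero _
  have h1 : 3 ^ 7 ∣ a.natAbs ^ 2 := by
    have h2 := Int.natAbs_dvd_natAbs.2 h
    rw [Int.natAbs_pow, Int.natAbs_mul, ← pow_two] at h2
    exact h2
  have hn : a.natAbs ≠ 0 := Int.natAbs_ne_zero.2 h0
  rw [Nat.prime_three.pow_dvd_iff_le_factorization (pow_ne_zero 2 hn), Nat.factorization_pow] at h1
  have h3 : 4 ≤ a.natAbs.factorization 3 := by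
    have h4 : 7 ≤ 2 * a.natAbs.factorization 3 := h1
    omega
  rw [← Nat.prime_three.pow_dvd_iff_le_factorization hn] at h3
  refine Int.natAbs_dvd_natAbs.1 ?_
  rw [Int.natAbs_pow]
  exact h3

theorem arith (n : ℕ) (hn : n ∣ 19) (m : ℕ) (hm : ¬ 3 ∣ m) (a k : ℤ)
    (h : (m : ℤ) * (n * (92897280 * 92897280) * 4881384 - a * a * (-1) * 90745943887872000) =
      k * 90745943887872000 * 4881384) : False := by
  have hcop : ∀ j : ℕ, IsCoprime ((3 : ℤ) ^ j) m := by
    intro j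
    have h1 : Nat.Coprime (3 ^ j) m := Nat.Coprime.pow_left _ ((Nat.Prime.coprime_iff_not_dvd Nat.prime_three).2 hm)
    have h2 := Nat.isCoprime_iff_coprime.2 h1
    exact_mod_cast h2
  have h1 : (3 : ℤ) ^ 9 ∣ n * 3 ^ 7 * 326202766131200 + a * a * 1536790528000 := by
    refine (hcop 9).dvd_of_dvd_mul_left (Dvd.intro (k * 1536790528000 * 248) ?_)
    have h2 : (3 : ℤ) ^ 10 * (3 ^ 9 * (k * 1536790528000 * 248)) =
        3 ^ 10 * (m * (n * 3 ^ 7 * 326202766131200 + a * a * 1536790528000)) := by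
      linear_combination -h
    exact mul_left_cancel₀ (by norm_num) h2
  have hB : ∀ j : ℕ, IsCoprime ((3 : ℤ) ^ j) 1536790528000 := by
    intro j
    have h2 : Nat.Coprime (3 ^ j) 1536790528000 := Nat.Coprime.pow_left _ (by norm_num)
    have h3 := Nat.isCoprime_iff_coprime.2 h2
    exact_mod_cast h3
  have h7 : (3 : ℤ) ^ 7 ∣ a * a := by
    refine (hB 7).dvd_of_dvd_mul_right ?_
    have h2 : (3 : ℤ) ^ 7 ∣ n * 3 ^ 7 * 326202766131200 + a * a * 1536790528000 :=
      (pow_dvd_pow (3 : ℤ) (by norm_num : 7 ≤ 9)).trans h1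
    refine (dvd_add_right ?_).1 h2
    exact ⟨n * 326202766131200, by ring⟩
  obtain ⟨b, rfl⟩ := four_of_sq h7
  have h8 : (3 : ℤ) ^ 8 ∣ n * 3 ^ 7 * 326202766131200 := by
    have h2 : (3 : ℤ) ^ 8 ∣ n * 3 ^ 7 * 326202766131200 + 3 ^ 4 * b * (3 ^ 4 * b) * 1536790528000 :=
      (pow_dvd_pow (3 : ℤ) (by norm_num : 8 ≤ 9)).trans h1
    refine (dvd_add_left ?_).1 h2
    exact ⟨b * b * 1536790528000, by ring⟩
  have h9 : (3 : ℤ) ∣ (n : ℤ) * 326202766131200 := by
    have h2 : (3 : ℤ) ^ 7 * 3 ∣ 3 ^ 7 * ((n : ℤ) * 326202766131200) := by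
      rw [← pow_succ]
      refine h8.trans (dvd_of_eq ?_)
      ring
    exact (mul_dvd_mul_iff_left (by norm_num)).1 h2
  have h10 : n = 1 ∨ n = 19 := (Nat.dvd_prime (by norm_num)).1 hn
  rcases h10 with rfl | rfl
  · revert h9
    norm_num
  · revert h9
    norm_num

/-- three irreducible characters of degree divisible by 3 -/
theorem many_three : Many 3 Spor.Th 3 := by
  classical
  have hfin := fin_th
  have h3F : Fact (Nat.Prime 3) := ⟨Nat.prime_three⟩
  obtain ⟨χ₀, h0⟩ := exists_of_mem mem.2.1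
  obtain ⟨χ₁, h1⟩ := exists_of_mem mem.1
  have hd0 : charDegree (χ₀ : Spor.Th → ℂ) = 4881384 := H670.PSing.charDegree_eq_of h0
  have hd1 : charDegree (χ₁ : Spor.Th → ℂ) = 51684750 := H670.PSing.charDegree_eq_of h1
  have hne : χ₀ ≠ χ₁ := by
    rintro rfl
    rw [hd0] at hd1
    omega
  -- the values at `x`
  obtain ⟨v0, hv0, hv0', hv0''⟩ := value χ₀
  obtain ⟨v1, hv1, hv1', hv1''⟩ := value χ₁
  rw [hd0] at hv0'
  rw [hd1] at hv1'
  have hb : ∀ v : ℤ, v ^ 2 ≤ 19 → -4 ≤ v ∧ v ≤ 4 := fun v hv => ⟨by nlinarith, by nlinarith⟩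
  have hv0e : v0 = -1 := by
    obtain ⟨h2, h3⟩ := hb v0 hv0''
    omega
  have hv1e : v1 = 0 := by
    obtain ⟨h2, h3⟩ := hb v1 hv1''
    omega
  obtain ⟨_, a, -, ha, -⟩ := SmallSimple.InvolColumn.exists_int_of_char (isIrr_isCharacter χ₀.2)
    (t := t) (by rw [← t_order, pow_orderOf_eq_one])
  -- the third character
  obtain ⟨χ₂, h2, h20, h21⟩ : ∃ χ₂ : IrrCharacter Spor.Th, 3 ∣ charDegree (χ₂ : Spor.Th → ℂ) ∧ χ₂ ≠ χ₀ ∧
      χ₂ ≠ χ₁ := by
    by_contra hcon
    push Not at hcon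
    obtain ⟨m, hm, k, hk⟩ := Third.exists_mul (p := 3) χ₀ t x (fun χ hχ hχx => by
      by_contra hne
      apply hχx
      rw [hcon χ hχ hne, hv1, hv1e, Int.cast_zero]) ha hv0
    rw [card_inv t t_order, hd0, hv0e, card_th] at hk
    refine arith (H672.SC.npairs t t x) ?_ m hm a k (by exact_mod_cast hk)
    have h4 := H672.SC.npairs_dvd (t := t) (g := x) (by rw [← pow_two, ← t_order, pow_orderOf_eq_one]) inv_x
      (by rw [card_cent]; decide)
    rwa [card_cent] at h4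
  refine H454.DlCrit.Many.of_card_out (o := 1) (H454.DlCrit.card_out_of_inner (H419.Row.inner_of_out S2083.result))
    (T := {(χ₀ : Spor.Th → ℂ), (χ₁ : Spor.Th → ℂ), (χ₂ : Spor.Th → ℂ)}) ?_ ?_
  · intro χ hχ
    simp only [Finset.mem_insert, Finset.mem_singleton] at hχ
    rcases hχ with rfl | rfl | rfl
    · exact ⟨χ₀.2, by rw [hd0]; norm_num⟩
    · exact ⟨χ₁.2, by rw [hd1]; norm_num⟩
    · exact ⟨χ₂.2, h2⟩
  · rw [Finset.card_insert_of_notMem, Finset.card_insert_of_notMem, Finset.card_singleton]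
    · norm_num
    · rw [Finset.mem_singleton]
      exact fun h => h21 (Subtype.ext h.symm)
    · rw [Finset.mem_insert, Finset.mem_singleton]
      rintro (h | h)
      · exact hne (Subtype.ext h)
      · exact h20 (Subtype.ext h.symm)

/-- **the row of the presented group** -/
theorem row_model {p : ℕ} (hp : p.Prime) (hd : p ∣ Nat.card Spor.Th) : Row p Spor.Th := by
  have : Fact p.Prime := ⟨hp⟩
  have hfin := fin_th
  have hd' := hd
  rw [card_th] at hd
  have h1 : (90745943887872000 : ℕ) = 2 ^ 15 * (3 ^ 10 * (5 ^ 3 * (7 ^ 2 * (13 * (19 * 31))))) := by norm_num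
  rw [h1] at hd
  have hone : ∀ a : ℕ, a ≤ 2 → ¬ p ^ (a + 1) ∣ Nat.card Spor.Th → Row p Spor.Th := by
    intro a ha h2
    exact Row.of_im (H680.Dl.dlLe_one ha h2) (im_th ⟨MulEquiv.refl _⟩ (p := p) hd')
  rcases hp.dvd_mul.1 hd with h2 | h2
  · obtain rfl := (Nat.prime_dvd_prime_iff_eq hp Nat.prime_two).1 (hp.dvd_of_dvd_pow h2)
    exact ⟨4, H680.Dl.dlLe_four (a := 15) (by norm_num) (by rw [card_th]; norm_num), many_two⟩
  rcases hp.dvd_mul.1 h2 with h3 | h3
  · obtain rfl := (Nat.prime_dvd_prime_iff_eq hp Nat.prime_three).1 (hp.dvd_of_dvd_pow h3)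
    exact ⟨3, H680.Dl.dlLe_three (a := 10) (by norm_num) (by rw [card_th]; norm_num), many_three⟩
  rcases hp.dvd_mul.1 h3 with h4 | h4
  · obtain rfl := (Nat.prime_dvd_prime_iff_eq hp Nat.prime_five).1 (hp.dvd_of_dvd_pow h4)
    exact ⟨3, H680.Dl.dlLe_three (a := 6) (by norm_num) (by rw [card_th]; norm_num), many_five⟩
  rcases hp.dvd_mul.1 h4 with h5 | h5
  · obtain rfl := (Nat.prime_dvd_prime_iff_eq hp (by norm_num)).1 (hp.dvd_of_dvd_pow h5)
    exact hone 2 (by norm_num) (by rw [card_th]; norm_num)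
  rcases hp.dvd_mul.1 h5 with h6 | h6
  · obtain rfl := (Nat.prime_dvd_prime_iff_eq hp (by norm_num)).1 h6
    exact hone 1 (by norm_num) (by rw [card_th]; norm_num)
  rcases hp.dvd_mul.1 h6 with h7 | h7
  · obtain rfl := (Nat.prime_dvd_prime_iff_eq hp (by norm_num)).1 h7
    exact hone 1 (by norm_num) (by rw [card_th]; norm_num)
  · obtain rfl := (Nat.prime_dvd_prime_iff_eq hp (by norm_num)).1 h7
    exact hone 1 (by norm_num) (by rw [card_th]; norm_num)

/-- **S4769 for the Thompson group, all primes.** -/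
theorem row_th (S : Type u) [Group S] [Finite S] (h : Cfsg.Spor.IsoTh S) {p : ℕ} (hp : p.Prime)
    (hd : p ∣ Nat.card S) : Row p S := by
  have : Fact p.Prime := ⟨hp⟩
  obtain ⟨e⟩ := h
  rw [Nat.card_congr e.toEquiv] at hd
  exact (row_model hp hd).of_equiv e

end Cfsg.Agent.H669.Dl.Th
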