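import Cfsg.Agent.H669.Dl.J4
import Cfsg.Agent.H651.Two.J4

/-!
# S4769: the row of `J4`, all primes, no hypothesis (helper669, task 2519)
-/

set_option autoImplicit false

namespace Cfsg.Agent.H669.Dl.J4

open Cfsg Subgroup Cfsg.Agent.H246.Dl

universe u

/-- **S4769 for `J4`, all primes.** -/
theorem row_j4_full (S : Type u) [Group S] [Finite S] (h : Cfsg.Spor.IsoJ4 S) {p : ℕ} (hp : p.Prime)
    (hd : p ∣ Nat.card S) : Row p S := by
  have : Fact p.Prime := ⟨hp⟩
  obtain ⟨e⟩ := h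
  rw [Nat.card_congr e.toEquiv] at hd
  exact (row_model hp hd fun _ => H651.Two.J4.two p hp hd).of_equiv e

end Cfsg.Agent.H669.Dl.J4
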