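import Cfsg.Agent.H669.Dl.HNDeg
import Cfsg.Agent.H669.Dl.A12
import Cfsg.Agent.H680.Dl.Hall
import Cfsg.Agent.CpAutHN.Pairs

/-!
# S4769: the row of the Harada–Norton group (task 2519)
-/

set_option autoImplicit false

namespace Cfsg.Agent.H669.Dl.HN

open Cfsg Cfsg.Agent.H33 Cfsg.Agent.H492.IMHN Cfsg.Agent.H246.Dl

universe u

theorem many_of_list {p : ℕ} {D : Finset ℕ} (h : ∀ d ∈ D, p ∣ d)
    (hD : ∀ d ∈ D, d = 8910 ∨ d = 214016 ∨ d = 267520 ∨ d = 365750 ∨ d = 16929) : Many p Spor.HN D.card := by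
  refine Many.of_finset fun d hd => ⟨h d hd, ?_⟩
  have key : ∃ χ : IrrCharacter Spor.HN, (χ : Spor.HN → ℂ) 1 = (d : ℕ) := by
    rcases hD d hd with rfl | rfl | rfl | rfl | rfl
    · exact exists_8910
    · exact exists_214016
    · exact exists_267520
    · exact exists_365750
    · exact exists_16929
  obtain ⟨χ, hχ⟩ := key
  exact ⟨χ, χ.2, hχ⟩

theorem many_two : Many 2 Spor.HN 4 :=
  many_of_list (D := {8910, 214016, 267520, 365750}) (by decide +kernel) (by
    intro d hd
    simp only [Finset.mem_insert, Finset.mem_singleton] at hd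
    tauto)

theorem many_five : Many 5 Spor.HN 3 :=
  many_of_list (D := {8910, 267520, 365750}) (by decide +kernel) (by
    intro d hd
    simp only [Finset.mem_insert, Finset.mem_singleton] at hd
    tauto)

theorem many_three : Many 3 Spor.HN 2 :=
  many_of_list (D := {8910, 16929}) (by decide +kernel) (by
    intro d hd
    simp only [Finset.mem_insert, Finset.mem_singleton] at hd
    tauto)

/-- the Sylow 3-subgroups of `HN` are metabelian -/
theorem dl_three : DlLe 3 2 Spor.HN := by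
  have : Fact (Nat.Prime 3) := ⟨Nat.prime_three⟩
  have hfin := finite_hn
  refine A12.dl_three Cfsg.Agent.CpAutHN.Alt.Φ Cfsg.Agent.CpAutHN.Alt.Φ_inj fun Q => ?_
  rw [Sylow.card_eq_multiplicity, card_hn]
  have h : (273030912000000 : ℕ) = 3 ^ 6 * 374528000000 := by norm_num
  rw [h, Nat.factorization_mul (by norm_num) (by norm_num), Nat.factorization_pow]
  have h2 : (374528000000 : ℕ).factorization 3 = 0 := Nat.factorization_eq_zero_of_not_dvd (by norm_num)
  simp [Nat.prime_three.factorization_self, h2]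

/-- **the row of the presented group** -/
theorem row_model {p : ℕ} (hp : p.Prime) (hd : p ∣ Nat.card Spor.HN) : Row p Spor.HN := by
  have : Fact p.Prime := ⟨hp⟩
  have hfin := finite_hn
  rw [card_hn] at hd
  have h1 : (273030912000000 : ℕ) = 2 ^ 14 * (3 ^ 6 * (5 ^ 6 * (7 * (11 * 19)))) := by norm_num
  rw [h1] at hd
  have hone : ∀ a : ℕ, a ≤ 2 → ¬ p ^ (a + 1) ∣ Nat.card Spor.HN → Row p Spor.HN := by
    intro a ha h2
    refine Row.of_im (H680.Dl.dlLe_one ha h2) (im_hn ⟨MulEquiv.refl _⟩ (p := p) ?_)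
    rw [card_hn, h1]
    exact hd
  rcases hp.dvd_mul.1 hd with h2 | h2
  · obtain rfl := (Nat.prime_dvd_prime_iff_eq hp Nat.prime_two).1 (hp.dvd_of_dvd_pow h2)
    exact ⟨4, H680.Dl.dlLe_four (a := 14) (by norm_num) (by rw [card_hn]; norm_num), many_two⟩
  rcases hp.dvd_mul.1 h2 with h3 | h3
  · obtain rfl := (Nat.prime_dvd_prime_iff_eq hp Nat.prime_three).1 (hp.dvd_of_dvd_pow h3)
    exact ⟨2, dl_three, many_three⟩
  rcases hp.dvd_mul.1 h3 with h4 | h4
  · obtain rfl := (Nat.prime_dvd_prime_iff_eq hp Nat.prime_five).1 (hp.dvd_of_dvd_pow h4)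
    exact ⟨3, H680.Dl.dlLe_three (a := 6) (by norm_num) (by rw [card_hn]; norm_num), many_five⟩
  rcases hp.dvd_mul.1 h4 with h5 | h5
  · obtain rfl := (Nat.prime_dvd_prime_iff_eq hp (by norm_num)).1 h5
    exact hone 1 (by norm_num) (by rw [card_hn]; norm_num)
  rcases hp.dvd_mul.1 h5 with h6 | h6
  · obtain rfl := (Nat.prime_dvd_prime_iff_eq hp (by norm_num)).1 h6
    exact hone 1 (by norm_num) (by rw [card_hn]; norm_num)
  · obtain rfl := (Nat.prime_dvd_prime_iff_eq hp (by norm_num)).1 h6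
    exact hone 1 (by norm_num) (by rw [card_hn]; norm_num)

/-- **S4769 for the Harada–Norton group, all primes.** -/
theorem row_hn (S : Type u) [Group S] [Finite S] (h : Cfsg.Spor.IsoHN S) {p : ℕ} (hp : p.Prime)
    (hd : p ∣ Nat.card S) : Row p S := by
  have : Fact p.Prime := ⟨hp⟩
  obtain ⟨e⟩ := h
  rw [Nat.card_congr e.toEquiv] at hd
  exact (row_model hp hd).of_equiv e

end Cfsg.Agent.H669.Dl.HN
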