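import Cfsg.Agent.H492.IMHN
import Cfsg.Agent.H246.Dl.Defs

/-!
# Irreducible characters of degrees 214016, 267520, 16929 of the Harada–Norton group (task 2519)

As in `H492.IMHN`.
-/

set_option autoImplicit false
set_option linter.style.longLine false

namespace Cfsg.Agent.H669.Dl.HN

open Cfsg Cfsg.Agent.HN Cfsg.Agent.HN.Pres Cfsg.Agent.HN.DCover Cfsg.Agent.HN.NormalH Cfsg.Agent.HN.DSem
open Cfsg.Agent.HN.Index Cfsg.Agent.H492.IMSph Cfsg.Agent.H33 Cfsg.Agent.H492.IMHN

/-- the eigenvector for the eigenvalue `-47` -/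
def vC : Fin 9 → ℚ := ![1, -47/1408, -1/44, 5/704, 1/352, -1/704, 0, 0, 0]

theorem uC (x : Fin 9 → ℂ) (h : ∀ i, ∑ j, (kk i j : ℂ) * x j = ((-47 : ℚ) : ℂ) * x i) (i : Fin 9) :
    x i = x 0 * ((vC i : ℚ) : ℂ) := by
  have e := rows x (-47) (by push_cast at h ⊢; exact h)
  obtain ⟨h0, h1, h2, h3, h4, h5, h6, h7, h8⟩ := e
  unfold vC
  fin_cases i
  · show x 0 = x 0 * (((1 : ℚ)) : ℂ)
    simp
  · show x 1 = x 0 * (((-47/1408 : ℚ)) : ℂ)
    push_cast
    linear_combination (1/1408) * h0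
  · show x 2 = x 0 * (((-1/44 : ℚ)) : ℂ)
    push_cast
    linear_combination (3021671/2079817740) * h0 + (-2153408/47268585) * h1 + (-392729/47268585) * h2 + (827744/9453717) * h3 + (289376/964665) * h4 + (-3424/64311) * h6 + (6848/2250885) * h7 + (-1792/6305) * h8
  · show x 3 = x 0 * (((5/704 : ℚ)) : ℂ)
    push_cast
    linear_combination (-61642703/166385419200) * h0 + (2436779/236342925) * h1 + (12248/9453717) * h2 + (-4668211/236342925) * h3 + (-235526/4823325) * h4 + (464/18915) * h6 + (-928/662025) * h7 + (18704/535925) * h8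
  · show x 4 = x 0 * (((1/352 : ℚ)) : ℂ)
    push_cast
    linear_combination (-60715157/582348967200) * h0 + (3406852/1654400475) * h1 + (492788/330880095) * h2 + (-4910648/1654400475) * h3 + (-450403/33763275) * h4 + (-7816/2250885) * h6 + (15632/78780975) * h7 + (9016/535925) * h8
  · show x 5 = x 0 * (((-1/704 : ℚ)) : ℂ)
    push_cast
    linear_combination (16511503/139763752128) * h0 + (-6562643/1588224456) * h1 + (-63845/46712484) * h2 + (8743649/794112228) * h3 + (374419/16206372) * h4 + (-19190/1350531) * h6 + (7676/9453717) * h7 + (-314/21437) * h8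
  · show x 6 = x 0 * (((0 : ℚ)) : ℂ)
    push_cast
    linear_combination (-1919/141805755) * h0 + (90193/141805755) * h1 + (14696/28361151) * h2 + (-314102/141805755) * h3 + (-15382/2893995) * h4 + (1163/192933) * h6 + (-2326/6752655) * h7 + (448/321555) * h8
  · show x 7 = x 0 * (((0 : ℚ)) : ℂ)
    push_cast
    linear_combination (491264/4963201425) * h0 + (-23089408/4963201425) * h1 + (-3762176/992640285) * h2 + (80410112/4963201425) * h3 + (3937792/101289825) * h4 + (-297728/6752655) * h6 + (1945987/236342925) * h7 + (-16384/1607775) * h8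
  · show x 8 = x 0 * (((0 : ℚ)) : ℂ)
    push_cast
    linear_combination (-1256/33763275) * h0 + (59032/33763275) * h1 + (-2672/6752655) * h2 + (-164368/33763275) * h3 + (-8912/1607775) * h4 + (3584/964665) * h6 + (-1024/4823325) * h7 + (10097/1607775) * h8

theorem eigC (i : Fin 9) : ∑ j, (kk i j : ℚ) * vC j = -47 * vC i := by
  revert i; decide +kernel

theorem normC : (∑ i, (ss i : ℚ) * vC i ^ 2 : ℚ) = 1539000 / 214016 := by decide +kernel

/-- an irreducible character of degree 214016 -/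
theorem exists_214016 : ∃ χ : IrrCharacter Cfsg.Spor.HN, (χ : Cfsg.Spor.HN → ℂ) 1 = (214016 : ℕ) := by
  obtain ⟨χ, hχ⟩ := main vC (-47) rfl eigC uC
  refine ⟨χ, ?_⟩
  rw [normC] at hχ
  push_cast at hχ ⊢
  linear_combination (214016 / 1539000 : ℂ) * hχ

/-- the eigenvector for the eigenvalue `28` -/
def vD : Fin 9 → ℚ := ![1, 7/352, -1/44, -1/704, -1/1232, 1/896, -5/4928, 1/77, 1/616]

theorem uD (x : Fin 9 → ℂ) (h : ∀ i, ∑ j, (kk i j : ℂ) * x j = ((28 : ℚ) : ℂ) * x i) (i : Fin 9) :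
    x i = x 0 * ((vD i : ℚ) : ℂ) := by
  have e := rows x (28) (by push_cast at h ⊢; exact h)
  obtain ⟨h0, h1, h2, h3, h4, h5, h6, h7, h8⟩ := e
  unfold vD
  fin_cases i
  · show x 0 = x 0 * (((1 : ℚ)) : ℂ)
    simp
  · show x 1 = x 0 * (((7/352 : ℚ)) : ℂ)
    push_cast
    linear_combination (1/1408) * h0
  · show x 2 = x 0 * (((-1/44 : ℚ)) : ℂ)
    push_cast
    linear_combination (-75083/68310000) * h0 + (-3124/388125) * h1 + (-331/62100) * h2 + (38/621) * h3 + (2338/15525) * h4 + (4648/43125) * h5 + (-70/207) * h6 + (7/207) * h7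
  · show x 3 = x 0 * (((-1/704 : ℚ)) : ℂ)
    push_cast
    linear_combination (95033/5464800000) * h0 + (7403/3881250) * h1 + (-149/310500) * h2 + (-131/31050) * h3 + (-1897/310500) * h4 + (4697/215625) * h5 + (-14/1035) * h6 + (7/5175) * h7
  · show x 4 = x 0 * (((-1/1232 : ℚ)) : ℂ)
    push_cast
    linear_combination (-134999/9563400000) * h0 + (5657/13584375) * h1 + (3113/2173500) * h2 + (-59/108675) * h3 + (-173/310500) * h4 + (-2627/215625) * h5 + (14/1035) * h6 + (-7/5175) * h7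
  · show x 5 = x 0 * (((1/896 : ℚ)) : ℂ)
    push_cast
    linear_combination (18943/278208000) * h0 + (859/1086750) * h1 + (-13/347760) * h2 + (-67/34776) * h3 + (-113/12420) * h4 + (-187/8625) * h5 + (5/138) * h6 + (-1/276) * h7
  · show x 6 = x 0 * (((-5/4928 : ℚ)) : ℂ)
    push_cast
    linear_combination (-1522421/22952160000) * h0 + (-6868/8150625) * h1 + (-187/1304100) * h2 + (859/260820) * h3 + (1327/186300) * h4 + (2023/129375) * h5 + (-67/2484) * h6 + (67/24840) * h7
  · show x 7 = x 0 * (((1/77 : ℚ)) : ℂ)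
    push_cast
    linear_combination (1522421/1793137500) * h0 + (439552/40753125) * h1 + (2992/1630125) * h2 + (-13744/326025) * h3 + (-21232/232875) * h4 + (-129472/646875) * h5 + (1072/3105) * h6 + (-1523/62100) * h7
  · show x 8 = x 0 * (((1/616 : ℚ)) : ℂ)
    push_cast
    linear_combination (1142041/14345100000) * h0 + (49373/81506250) * h1 + (-359/6520500) * h2 + (-6487/1304100) * h3 + (-2393/465750) * h4 + (-9953/1293750) * h5 + (247/12420) * h6 + (-247/124200) * h7

theorem eigD (i : Fin 9) : ∑ j, (kk i j : ℚ) * vD j = 28 * vD i := by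
  revert i; decide +kernel

theorem normD : (∑ i, (ss i : ℚ) * vD i ^ 2 : ℚ) = 1539000 / 267520 := by decide +kernel

/-- an irreducible character of degree 267520 -/
theorem exists_267520 : ∃ χ : IrrCharacter Cfsg.Spor.HN, (χ : Cfsg.Spor.HN → ℂ) 1 = (267520 : ℕ) := by
  obtain ⟨χ, hχ⟩ := main vD (28) rfl eigD uD
  refine ⟨χ, ?_⟩
  rw [normD] at hχ
  push_cast at hχ ⊢
  linear_combination (267520 / 1539000 : ℂ) * hχ

/-- the eigenvector for the eigenvalue `128` -/
def vE : Fin 9 → ℚ := ![1, 1/11, 1/11, 0, 1/77, -1/154, 0, 5/77, 0]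

theorem uE (x : Fin 9 → ℂ) (h : ∀ i, ∑ j, (kk i j : ℂ) * x j = ((128 : ℚ) : ℂ) * x i) (i : Fin 9) :
    x i = x 0 * ((vE i : ℚ) : ℂ) := by
  have e := rows x (128) (by push_cast at h ⊢; exact h)
  obtain ⟨h0, h1, h2, h3, h4, h5, h6, h7, h8⟩ := e
  unfold vE
  fin_cases i
  · show x 0 = x 0 * (((1 : ℚ)) : ℂ)
    simp
  · show x 1 = x 0 * (((1/11 : ℚ)) : ℂ)
    push_cast
    linear_combination (1/1408) * h0
  · show x 2 = x 0 * (((1/11 : ℚ)) : ℂ)
    push_cast
    linear_combination (2669/3696000) * h0 + (4/2625) * h1 + (-67/6720) * h2 + (-11/420) * h3 + (-1/40) * h4 + (-3/500) * h5 + (21/320) * h8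
  · show x 3 = x 0 * (((0 : ℚ)) : ℂ)
    push_cast
    linear_combination (173/16800000) * h0 + (173/131250) * h1 + (71/168000) * h2 + (13/4200) * h3 + (-3/2000) * h4 + (33/3125) * h5 + (-21/1600) * h8
  · show x 4 = x 0 * (((1/77 : ℚ)) : ℂ)
    push_cast
    linear_combination (34061/323400000) * h0 + (227/459375) * h1 + (-17/1176000) * h2 + (-151/29400) * h3 + (-19/14000) * h4 + (-141/21875) * h5 + (21/1600) * h8
  · show x 5 = x 0 * (((-1/154 : ℚ)) : ℂ)
    push_cast
    linear_combination (-4997/103488000) * h0 + (23/73500) * h1 + (39/62720) * h2 + (1/294) * h3 + (1/210) * h4 + (-61/14000) * h5 + (-1/256) * h8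
  · show x 6 = x 0 * (((0 : ℚ)) : ℂ)
    push_cast
    linear_combination (-1/480000) * h0 + (-1/3750) * h1 + (-1/2400) * h2 + (-1/300) * h4 + (3/625) * h5
  · show x 7 = x 0 * (((5/77 : ℚ)) : ℂ)
    push_cast
    linear_combination (79801/161700000) * h0 + (-811/459375) * h1 + (-437/98000) * h2 + (-173/7350) * h3 + (-139/2625) * h4 + (-537/21875) * h5 + (1/10) * h6 + (3/400) * h8
  · show x 8 = x 0 * (((0 : ℚ)) : ℂ)
    push_cast
    linear_combination (-1/2400000) * h0 + (-1/18750) * h1 + (7/16000) * h2 + (-1/600) * h3 + (31/6000) * h4 + (-101/25000) * h5 + (3/3200) * h8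

theorem eigE (i : Fin 9) : ∑ j, (kk i j : ℚ) * vE j = 128 * vE i := by
  revert i; decide +kernel

theorem normE : (∑ i, (ss i : ℚ) * vE i ^ 2 : ℚ) = 1539000 / 16929 := by decide +kernel

/-- an irreducible character of degree 16929 -/
theorem exists_16929 : ∃ χ : IrrCharacter Cfsg.Spor.HN, (χ : Cfsg.Spor.HN → ℂ) 1 = (16929 : ℕ) := by
  obtain ⟨χ, hχ⟩ := main vE (128) rfl eigE uE
  refine ⟨χ, ?_⟩
  rw [normE] at hχ
  push_cast at hχ ⊢
  linear_combination (16929 / 1539000 : ℂ) * hχ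

end Cfsg.Agent.H669.Dl.HN
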