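import Cfsg.Agent.H669.Dl.J4Count
import Cfsg.Agent.H877.IMJ4
import Cfsg.Agent.H860.Sixty
import Cfsg.Agent.H860.JJ4
import Cfsg.Agent.H865.RhoEleven
import Cfsg.Agent.H680.Dl.Hall
import Cfsg.Agent.H454.Dl.Crit
import Cfsg.Agent.H246.Dl.Defs
import Cfsg.Agent.H419.Row
import Cfsg.Agent.S2068

/-!
# S4769: the row of `J4` (helper669, task 2519)
-/

set_option autoImplicit false
set_option maxRecDepth 100000

namespace Cfsg.Agent.H669.Dl.J4

open Cfsg Subgroup Cfsg.Agent.H246.Dl

universe u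

/-! ### The 2-part of a centralizer -/

/-- the 2-part of the centralizer of a 2-element `x` from a subgroup of odd index -/
theorem factorization_le {G : Type*} [Group G] [Finite G] (K : Subgroup G) (hK : ¬ 2 ∣ K.index) {x : G} {n k : ℕ}
    (hx : x ^ 2 ^ n = 1) (h : ∀ g : G, g⁻¹ * x * g ∈ K →
      Nat.card {s : G // s ∈ K ∧ s * (g⁻¹ * x * g) = (g⁻¹ * x * g) * s} ≤ 2 ^ k) :
    (Nat.card (centralizer ({x} : Set G))).factorization 2 ≤ k := by
  classical
  have h2F : Fact (Nat.Prime 2) := ⟨Nat.prime_two⟩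
  have hxC : x ∈ centralizer ({x} : Set G) := mem_centralizer_singleton_iff.2 rfl
  have hz : IsPGroup 2 (zpowers (⟨x, hxC⟩ : centralizer ({x} : Set G))) :=
    H860.TwoElem.isPGroup_zpowers_pow (n := n) (Subtype.ext hx)
  obtain ⟨P, hP⟩ := hz.exists_le_sylow
  have hP2 : IsPGroup 2 ((P : Subgroup (centralizer ({x} : Set G))).map (centralizer ({x} : Set G)).subtype) :=
    P.isPGroup'.map _
  obtain ⟨a, ha⟩ := hP2.nonempty_fixed_point_of_prime_not_dvd_card (G ⧸ K) hK
  obtain ⟨g, rfl⟩ := QuotientGroup.mk_surjective a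
  have hmem : ∀ s : (P : Subgroup (centralizer ({x} : Set G))), g⁻¹ * ((s : centralizer ({x} : Set G)) : G) * g ∈ K := by
    intro s
    have h1 := ha ⟨((s : centralizer ({x} : Set G)) : G), mem_map_of_mem _ s.2⟩
    have h' : (QuotientGroup.mk (((s : centralizer ({x} : Set G)) : G) * g) : G ⧸ K) = QuotientGroup.mk g := h1
    rw [QuotientGroup.eq] at h'
    have h2 := K.inv_mem h'
    have e : ((((s : centralizer ({x} : Set G)) : G) * g)⁻¹ * g)⁻¹ =
        g⁻¹ * ((s : centralizer ({x} : Set G)) : G) * g := by group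
    rwa [e] at h2
  have hxK : g⁻¹ * x * g ∈ K := hmem ⟨⟨x, hxC⟩, hP (mem_zpowers _)⟩
  have hcomm : ∀ s : (P : Subgroup (centralizer ({x} : Set G))),
      (g⁻¹ * ((s : centralizer ({x} : Set G)) : G) * g) * (g⁻¹ * x * g) =
      (g⁻¹ * x * g) * (g⁻¹ * ((s : centralizer ({x} : Set G)) : G) * g) := by
    intro s
    have h1 : ((s : centralizer ({x} : Set G)) : G) * x = x * ((s : centralizer ({x} : Set G)) : G) :=
      mem_centralizer_singleton_iff.1 s.1.2
    calc (g⁻¹ * ((s : centralizer ({x} : Set G)) : G) * g) * (g⁻¹ * x * g) =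
        g⁻¹ * (((s : centralizer ({x} : Set G)) : G) * x) * g := by group
      _ = g⁻¹ * (x * ((s : centralizer ({x} : Set G)) : G)) * g := by rw [h1]
      _ = _ := by group
  have h1 := Nat.card_le_card_of_injective (fun s : (P : Subgroup (centralizer ({x} : Set G))) =>
    (⟨g⁻¹ * ((s : centralizer ({x} : Set G)) : G) * g, hmem s, hcomm s⟩ :
      {s : G // s ∈ K ∧ s * (g⁻¹ * x * g) = (g⁻¹ * x * g) * s})) (by
      intro s s' hs
      have h2 := congrArg Subtype.val hs
      exact Subtype.ext (Subtype.ext (mul_left_cancel (mul_right_cancel h2))))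
  have h2 := h1.trans (h g hxK)
  rw [P.card_eq_multiplicity] at h2
  exact (Nat.pow_le_pow_iff_right (by norm_num)).1 h2

/-! ### Elements of order 16 of `J4` -/

open Cfsg.Agent.J4.Rep112 Cfsg.Agent.J4.Classes Cfsg.Agent.H860.PartFiveSeven
open Cfsg.Agent.J4.Lower (qs)

theorem factorization_sixteen {x : Spor.J4} (hx : orderOf x = 16) :
    (Nat.card (centralizer ({x} : Set Spor.J4))).factorization 2 ≤ 5 := by
  have inj := Cfsg.Agent.H858.VK.rho_injective
  have hodd := H860.FusTen.odd_index H860.Sixty.not_two_pow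
  have hR : Finite rho.range := inferInstance
  set K : Subgroup Spor.J4 := (NN qs psi).comap rho with hK
  have hidx : ¬ 2 ∣ K.index := by
    have h1 : K.index = ((NN qs psi).subgroupOf rho.range).index := by
      have h2 : K = ((NN qs psi).subgroupOf rho.range).comap rho.rangeRestrict := by
        ext y
        rfl
      rw [h2, index_comap_of_surjective _ rho.rangeRestrict_surjective]
    rw [h1]
    exact hodd
  refine factorization_le K hidx (n := 4) (by rw [show 2 ^ 4 = 16 from rfl, ← hx, pow_orderOf_eq_one]) ?_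
  intro g hg
  have h16 : orderOf (rho (g⁻¹ * x * g)) = 16 := by
    rw [orderOf_injective rho inj, ← hx]
    have h1 := MulEquiv.orderOf_eq (MulAut.conj g⁻¹) x
    rw [← h1]
    simp
  have h1 := card_le hyp (u := rho (g⁻¹ * x * g)) hg h16
  refine le_trans (Nat.card_le_card_of_injective (fun s => (⟨rho s.1, s.2.1, by
    rw [← map_mul, s.2.2, map_mul]⟩ : {s : Matrix.GeneralLinearGroup (Fin 112) (ZMod 2) // s ∈ NN qs psi ∧
      s * rho (g⁻¹ * x * g) = rho (g⁻¹ * x * g) * s})) ?_) h1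
  intro s s' hs
  exact Subtype.ext (inj (congrArg Subtype.val hs))

/-! ### No element of odd prime order commutes with an element of order 16 -/

open Cfsg.Agent.H860.PairGroup Cfsg.Agent.H860.JData Cfsg.Agent.SporadicStructure.M24El in
/-- exponent of a table group -/
theorem pow_tab {G : Type*} [Group G] [Finite G] {R : Subgroup G} {l : List G} {phi : M24 →* G} {T : Tab}
    (H : Cfsg.Agent.J4.ClassesAbs.Hyp R l phi) {p q : ℕ}
    (h : T.treeOk = true) (hc : T.closedOk = true) (hcov : T.coverOk p = true) (hrep : T.repsOk q = true)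
    {a : G} (ha : a ∈ Tab.K T l phi) : a ^ (p * q) = 1 := by
  unfold Tab.coverOk at hcov
  rw [Bool.and_eq_true, List.all_eq_true, List.all_eq_true] at hcov
  obtain ⟨hr, hcov⟩ := hcov
  have hr' : ∀ k < T.reps.length, T.r k < T.n := fun k hk => by
    have := hr k (List.mem_range.2 hk)
    rwa [Nat.blt_eq] at this
  unfold Tab.repsOk at hrep
  rw [List.all_eq_true] at hrep
  obtain ⟨i, hi, rfl⟩ := Tab.exists_x H h hc ha
  have h1 := hcov i (List.mem_range.2 hi)
  rcases hl : Nat.blt (H860.Orb.tget T.lab 4 i) T.reps.length with _ | _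
  · rw [hl, cond_false, Bool.and_eq_true, Bool.not_eq_true'] at h1
    have h2 : E l phi (T.x i) ^ p = 1 := by
      rw [← (Tab.E_pw H (Tab.x_ok h hi) p).2, eqc_eq h1.1, E_one]
    rw [pow_mul, h2, one_pow]
  · rw [hl, cond_true, Bool.and_eq_true, Nat.blt_eq] at h1
    have hl' : H860.Orb.tget T.lab 4 i < T.reps.length := by rwa [Nat.blt_eq] at hl
    have h2 := congrArg (E l phi) (eqc_eq h1.2)
    rw [E_mul H (Tab.x_ok h h1.1) (Tab.x_ok h hi), E_mul H (Tab.x_ok h (hr' _ hl')) (Tab.x_ok h h1.1)] at h2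
    have h3 := hrep _ (List.mem_range.2 hl')
    rw [Bool.and_eq_true] at h3
    have h4 : E l phi (T.x (T.r (H860.Orb.tget T.lab 4 i))) ^ q = 1 := by
      rw [← (Tab.E_pw H (Tab.x_ok h (hr' _ hl')) q).2, eqc_eq h3.1, E_one]
    have h5 : E l phi (T.x i) ^ q = 1 := by
      set c := E l phi (T.x (H860.Orb.tget T.cj 11 i)) with hc'
      have h6 : E l phi (T.x i) = c⁻¹ * E l phi (T.x (T.r (H860.Orb.tget T.lab 4 i))) * (c⁻¹)⁻¹ := by
        rw [inv_inv, mul_assoc, ← h2]
        group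
      rw [h6, conj_pow, h4]
      group
    rw [mul_comm, pow_mul, h5, one_pow]

/-- exponent of `J` -/
theorem pow_J {b : Spor.J4} (hb : b ∈ H858.Loc5.J) : b ^ 168 = 1 := by
  apply Cfsg.Agent.H858.VK.rho_injective
  rw [map_pow, map_one]
  have h1 : rho b ∈ H860.PairGroup.Tab.K H860.JData.TJ qs psi := by
    rw [← H860.JJ4.map_J]
    exact mem_map_of_mem _ hb
  exact pow_tab (p := 7) (q := 24) hyp H860.JTab.tree H860.JTab.closed H860.JTab.cover H860.JTab.reps h1

/-- a conjugate of `x` in the centralizer of a conjugate -/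
theorem comm_of_isConj {G : Type*} [Group G] {x w v : G} (hwx : w * x = x * w) (h : IsConj w v) :
    ∃ g : G, (g * x * g⁻¹) * v = v * (g * x * g⁻¹) := by
  obtain ⟨g, rfl⟩ := isConj_iff.1 h
  refine ⟨g, ?_⟩
  calc g * x * g⁻¹ * (g * w * g⁻¹) = g * (x * w) * g⁻¹ := by group
    _ = g * (w * x) * g⁻¹ := by rw [hwx]
    _ = g * w * g⁻¹ * (g * x * g⁻¹) := by group

theorem order_conj {G : Type*} [Group G] (g x : G) : orderOf (g * x * g⁻¹) = orderOf x :=
  MulEquiv.orderOf_eq (MulAut.conj g) x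

theorem not_odd {x w : Spor.J4} (hx : orderOf x = 16) {r : ℕ} (hr : r.Prime) (hr2 : r ≠ 2) (hw : orderOf w = r)
    (hwx : w * x = x * w) : False := by
  have hd : r ∣ Nat.card Spor.J4 := hw ▸ orderOf_dvd_natCard w
  have hdvd : ∀ v : Spor.J4, IsConj w v → 16 ∣ Nat.card (centralizer ({v} : Set Spor.J4)) := by
    intro v hv
    obtain ⟨g, hg⟩ := comm_of_isConj hwx hv
    have h1 := orderOf_dvd_natCard (⟨g * x * g⁻¹, mem_centralizer_singleton_iff.2 hg⟩ :
      centralizer ({v} : Set Spor.J4))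
    rwa [Subgroup.orderOf_mk, order_conj, hx] at h1
  rw [card_J4, show (86775571046077562880 : ℕ) =
    2 ^ 21 * (3 ^ 3 * (5 * (7 * (11 ^ 3 * (23 * (29 * (31 * (37 * 43)))))))) by norm_num] at hd
  have hbig : 23 ≤ r → False := by
    intro h23
    have h8 : orderOf (x ^ 8) = 2 := by
      rw [orderOf_pow, hx]
      norm_num
    refine H859.BigPrime.not_comm_two hr h23 hw h8 ?_
    exact (Commute.pow_right (show Commute w x from hwx) 8).eq
  rcases hr.dvd_mul.1 hd with h2 | hd
  · exact hr2 ((Nat.prime_dvd_prime_iff_eq hr Nat.prime_two).1 (hr.dvd_of_dvd_pow h2))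
  rcases hr.dvd_mul.1 hd with h3 | hd
  · obtain rfl := (Nat.prime_dvd_prime_iff_eq hr Nat.prime_three).1 (hr.dvd_of_dvd_pow h3)
    obtain ⟨hfin, -, ⟨F⟩⟩ := KFacts.J4.Base.exists_full (K := Cfsg.Spor.J4) ⟨MulEquiv.refl _⟩
    obtain ⟨g, hg⟩ := comm_of_isConj hwx (H856.SylowThree.one_class F.C hw F.C.ρ_order)
    have hx16 : (g * x * g⁻¹) ^ 2 ^ 4 = 1 := by
      rw [show 2 ^ 4 = 16 from rfl, ← hx, ← order_conj g x, pow_orderOf_eq_one]
    obtain ⟨d, -, i, hi⟩ := H865.RhoTwo.exists_rr F.C hg hx16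
    have h1 := H865.RhoTwo.rr_pow F.C i
    rw [← hi, ← orderOf_dvd_iff_pow_eq_one, order_conj, order_conj, hx] at h1
    norm_num at h1
  rcases hr.dvd_mul.1 hd with h5 | hd
  · obtain rfl := (Nat.prime_dvd_prime_iff_eq hr Nat.prime_five).1 h5
    have hf : orderOf H858.Elem.f = 5 := by
      have : Fact (Nat.Prime 5) := ⟨Nat.prime_five⟩
      exact orderOf_eq_prime H858.Elem.f_pow H858.Loc5.f_ne
    have h1 : IsConj w H858.Elem.f := H860.CountDirect.isConj_of_nc_one nc_five_eq hw hf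
    obtain ⟨g, hg⟩ := comm_of_isConj hwx h1
    have h2 : g * x * g⁻¹ ∈ centralizer (H858.Loc5.F5 : Set Spor.J4) := by
      unfold H858.Loc5.F5
      rw [H858.NormC.centralizer_zpowers]
      exact mem_centralizer_singleton_iff.2 hg
    obtain ⟨a, ha, b, hb, hab⟩ := H860.CountDirect.exists_mul H858.Loc5.directProduct h2
    have hcomm : Commute a b := H858.Loc5.directProduct.2.2.1 a ha b hb
    have ha5 : a ^ 5 = 1 := by
      have h3 : (⟨a, ha⟩ : H858.Loc5.F5) ^ Nat.card H858.Loc5.F5 = 1 := pow_card_eq_one'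
      rw [H858.Loc5.card_F5] at h3
      exact congrArg Subtype.val h3
    have h3 : (g * x * g⁻¹) ^ 840 = 1 := by
      rw [hab, hcomm.mul_pow, show 840 = 5 * 168 from rfl, pow_mul, ha5, one_pow, one_mul, mul_comm, pow_mul,
        pow_J hb, one_pow]
    rw [← orderOf_dvd_iff_pow_eq_one, order_conj, hx] at h3
    norm_num at h3
  rcases hr.dvd_mul.1 hd with h7 | hd
  · obtain rfl := (Nat.prime_dvd_prime_iff_eq hr (by norm_num)).1 h7
    have : Fact (Nat.Prime 7) := ⟨by norm_num⟩
    have h49 : ¬ 7 * 7 ∣ Nat.card Cfsg.Spor.J4 := by rw [card_J4]; norm_num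
    have hc : Nat.card (Subgroup.zpowers w) = 7 := by rw [Nat.card_zpowers, hw]
    obtain ⟨g, hg⟩ := H858.Abs.exists_conj_prime (p := 7) H858.Norm57.card_S7 hc h49
    have h1 : Nat.card (centralizer ({w} : Set Spor.J4)) = 840 := by
      rw [← H858.NormC.centralizer_zpowers, ← H858.Loc7.card_C, ← hg]
      rw [← H858.Abs.map_centralizer_equiv (MulAut.conj g) H858.Norm57.S7]
      exact Nat.card_congr ((centralizer (H858.Norm57.S7 : Set Spor.J4)).equivMapOfInjective _
        (MulAut.conj g).injective).symm.toEquiv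
    have h2 := hdvd w (IsConj.refl w)
    rw [h1] at h2
    norm_num at h2
  rcases hr.dvd_mul.1 hd with h11 | hd
  · obtain rfl := (Nat.prime_dvd_prime_iff_eq hr (by norm_num)).1 (hr.dvd_of_dvd_pow h11)
    rcases H859.ClassEleven.isConj_or hw with h | h
    · have h2 := hdvd _ h
      rw [H859.SylEleven.card_centralizer_x_eq] at h2
      norm_num at h2
    · have h2 := hdvd _ h
      have h3 : Nat.card (centralizer ({H859.NU.c} : Set Spor.J4)) = 24 * 11 ^ 3 := H859.CentC.card_D
      rw [h3] at h2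
      norm_num at h2
  apply hbig
  have hrp : ∀ q : ℕ, q.Prime → 23 ≤ q → r ∣ q → 23 ≤ r := fun q hq hq2 h => by
    rwa [(Nat.prime_dvd_prime_iff_eq hr hq).1 h]
  rcases hr.dvd_mul.1 hd with h | hd
  · exact hrp _ (by norm_num) (by norm_num) h
  rcases hr.dvd_mul.1 hd with h | hd
  · exact hrp _ (by norm_num) (by norm_num) h
  rcases hr.dvd_mul.1 hd with h | hd
  · exact hrp _ (by norm_num) (by norm_num) h
  rcases hr.dvd_mul.1 hd with h | hd
  · exact hrp _ (by norm_num) (by norm_num) h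
  · exact hrp _ (by norm_num) (by norm_num) hd

/-- the centralizer of an element of order 16 is a 2-group -/
theorem isPGroup_centralizer {x : Spor.J4} (hx : orderOf x = 16) : IsPGroup 2 (centralizer ({x} : Set Spor.J4)) := by
  have h2F : Fact (Nat.Prime 2) := ⟨Nat.prime_two⟩
  refine IsPGroup.of_card (n := _) (Nat.eq_prime_pow_of_unique_prime_dvd Nat.card_pos.ne' fun {r} hr hd => ?_)
  by_contra hne
  have hF : Fact r.Prime := ⟨hr⟩
  obtain ⟨w, hw⟩ := exists_prime_orderOf_dvd_card' r hd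
  exact not_odd hx hr hne (w := w) (by rw [Subgroup.orderOf_coe, hw]) (mem_centralizer_singleton_iff.1 w.2)

theorem exists_sixteen : ∃ x : Spor.J4, orderOf x = 16 := by
  obtain ⟨x, hx⟩ := H860.TenNon.rep_mem 9
  refine ⟨x, ?_⟩
  rw [← orderOf_injective rho Cfsg.Agent.H858.VK.rho_injective, hx, H860.TenNon.order_rep 9 (by norm_num)]
  rfl

theorem many_two : Many 2 Spor.J4 4 := by
  have h2F : Fact (Nat.Prime 2) := ⟨Nat.prime_two⟩
  obtain ⟨x, hx⟩ := exists_sixteen
  refine H454.DlCrit.Many.of_count_le' (o := 1) (c := 62) (b := 32) (x := x) ⟨4, by rw [hx]; rfl⟩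
    (H454.DlCrit.card_out_of_inner (H419.Row.inner_of_out S2068.result))
    (ge_of_eq H877.IMJ4.card_classes) ?_ (by norm_num)
  rw [H593.IMCount.numReg_eq_one (isPGroup_centralizer hx), mul_one]
  exact (Nat.pow_le_pow_right (by norm_num) (factorization_sixteen hx)).trans (by norm_num)

/-- **the row of the presented group**; for `p = 3, 11` two characters are assumed -/
theorem row_model {p : ℕ} (hp : p.Prime) (hd : p ∣ Nat.card Spor.J4)
    (hT : p = 3 ∨ p = 11 → H596.OneFacts.Two p Spor.J4) : Row p Spor.J4 := by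
  have : Fact p.Prime := ⟨hp⟩
  have hd' := hd
  rw [card_J4, show (86775571046077562880 : ℕ) =
    2 ^ 21 * (3 ^ 3 * (5 * (7 * (11 ^ 3 * (23 * (29 * (31 * (37 * 43)))))))) by norm_num] at hd
  have hone : ∀ q : ℕ, q.Prime → ¬ q ^ 2 ∣ Nat.card Spor.J4 → p ∣ q → Row p Spor.J4 := by
    intro q hq h2 hpq
    obtain rfl := (Nat.prime_dvd_prime_iff_eq hp hq).1 hpq
    exact Row.of_im (H680.Dl.dlLe_one (a := 1) (by norm_num) h2)
      (H877.IMJ4.im_model hp hd')
  rcases hp.dvd_mul.1 hd with h2 | hd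
  · obtain rfl := (Nat.prime_dvd_prime_iff_eq hp Nat.prime_two).1 (hp.dvd_of_dvd_pow h2)
    exact ⟨4, (H680.Dl.dlLe_of_card' (a := 21) (by rw [card_J4]; norm_num)).2.1 (by norm_num), many_two⟩
  rcases hp.dvd_mul.1 hd with h3 | hd
  · obtain rfl := (Nat.prime_dvd_prime_iff_eq hp Nat.prime_three).1 (hp.dvd_of_dvd_pow h3)
    exact Row.of_twoStrict (H680.Dl.dlLe_two (a := 3) (by norm_num) (by rw [card_J4]; norm_num)) (hT (Or.inl rfl))
  rcases hp.dvd_mul.1 hd with h5 | hd
  · exact hone 5 (by norm_num) (by rw [card_J4]; norm_num) h5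
  rcases hp.dvd_mul.1 hd with h7 | hd
  · exact hone 7 (by norm_num) (by rw [card_J4]; norm_num) h7
  rcases hp.dvd_mul.1 hd with h11 | hd
  · obtain rfl := (Nat.prime_dvd_prime_iff_eq hp (by norm_num)).1 (hp.dvd_of_dvd_pow h11)
    exact Row.of_twoStrict (H680.Dl.dlLe_two (a := 3) (by norm_num) (by rw [card_J4]; norm_num)) (hT (Or.inr rfl))
  rcases hp.dvd_mul.1 hd with h | hd
  · exact hone 23 (by norm_num) (by rw [card_J4]; norm_num) h
  rcases hp.dvd_mul.1 hd with h | hd
  · exact hone 29 (by norm_num) (by rw [card_J4]; norm_num) h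
  rcases hp.dvd_mul.1 hd with h | hd
  · exact hone 31 (by norm_num) (by rw [card_J4]; norm_num) h
  rcases hp.dvd_mul.1 hd with h | h
  · exact hone 37 (by norm_num) (by rw [card_J4]; norm_num) h
  · exact hone 43 (by norm_num) (by rw [card_J4]; norm_num) h

/-- **S4769 for `J4`, all primes** (`Two p S` as a hypothesis for `p = 3, 11`). -/
theorem row_j4 (S : Type u) [Group S] [Finite S] (h : Cfsg.Spor.IsoJ4 S) {p : ℕ} (hp : p.Prime)
    (hd : p ∣ Nat.card S) (hT : p = 3 ∨ p = 11 → H596.OneFacts.Two p S) : Row p S := by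
  have : Fact p.Prime := ⟨hp⟩
  obtain ⟨e⟩ := h
  rw [Nat.card_congr e.toEquiv] at hd
  have hT' : p = 3 ∨ p = 11 → H596.OneFacts.Two p Spor.J4 := by
    intro h3
    obtain ⟨α, β, ha, hb, hσ⟩ := hT h3
    have hcd : ∀ χ : IrrCharacter S, charDegree ((χ : S → ℂ) ∘ e.symm) = charDegree (χ : S → ℂ) := by
      intro χ
      unfold charDegree
      rw [Function.comp_apply, map_one]
    refine ⟨⟨(α : S → ℂ) ∘ e.symm, Cfsg.Agent.Characters.Core.isIrr_comp e.symm.toMonoidHom e.symm.surjective α.2⟩,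
      ⟨(β : S → ℂ) ∘ e.symm, Cfsg.Agent.Characters.Core.isIrr_comp e.symm.toMonoidHom e.symm.surjective β.2⟩,
      ?_, ?_, ?_⟩
    · show p ∣ charDegree ((α : S → ℂ) ∘ e.symm)
      rw [hcd]; exact ha
    · show p ∣ charDegree ((β : S → ℂ) ∘ e.symm)
      rw [hcd]; exact hb
    · intro σ
      obtain ⟨s, hs⟩ := hσ ((e.trans σ).trans e.symm)
      refine ⟨e s, fun h4 => hs ?_⟩
      change (α : S → ℂ) (e.symm (σ (e s))) = (β : S → ℂ) (e.symm (e s)) at h4
      rw [e.symm_apply_apply] at h4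
      exact h4
  exact (row_model hp hd hT').of_equiv e

end Cfsg.Agent.H669.Dl.J4
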